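import Groth.Agent.RPushQC.SectionsExact

/-!
Direct images of restrictions to opens, and their Mayer-Vietoris sequence on flasque modules.
-/

universe u

open CategoryTheory CategoryTheory.Limits AlgebraicGeometry TopologicalSpace Opposite

set_option backward.isDefEq.respectTransparency false

noncomputable section

namespace Groth.Agent.RPushQC

open Groth.Agent.QC

variable {X S : Scheme.{u}}

/-- `ι_* ι^*` -/
abbrev E (U : X.Opens) : X.Modules ⥤ X.Modules :=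
  Scheme.Modules.restrictFunctor U.ι ⋙ Scheme.Modules.pushforward U.ι

lemma eimg (U W : X.Opens) : U.ι ''ᵁ U.ι ⁻¹ᵁ W = U ⊓ W := by
  rw [Scheme.Hom.image_preimage_eq_opensRange_inf, Scheme.Opens.opensRange_ι]

lemma e_le {U U' : X.Opens} (h : U' ≤ U) (W : X.Opens) : U'.ι ''ᵁ U'.ι ⁻¹ᵁ W ≤ U.ι ''ᵁ U.ι ⁻¹ᵁ W := by
  rw [eimg, eimg]; exact inf_le_inf_right _ h

lemma e_smul (N : X.Modules) (U W : X.Opens) (r : Γ(X, W)) (s : Γ(N, U.ι ''ᵁ U.ι ⁻¹ᵁ W)) :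
    (show Γ(N, U.ι ''ᵁ U.ι ⁻¹ᵁ W) from r • (show Γ((E U).obj N, W) from s)) =
      resO X (U.ι.image_preimage_le W) r • s := by
  show ((U.ι.appIso _).inv ((U.ι.app W) r)) • s = _
  congr 1
  exact congr($(U.ι.app_appIso_inv W) r)

lemma e_map {W W' : X.Opens} (U : X.Opens) (h : W' ≤ W) : U.ι ''ᵁ U.ι ⁻¹ᵁ W' ≤ U.ι ''ᵁ U.ι ⁻¹ᵁ W := by
  rw [eimg, eimg]; exact inf_le_inf_left _ h

lemma e_res (N : X.Modules) (U : X.Opens) {W W' : X.Opens} (h : W' ≤ W)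
    (s : Γ(N, U.ι ''ᵁ U.ι ⁻¹ᵁ W)) :
    (show Γ(N, U.ι ''ᵁ U.ι ⁻¹ᵁ W') from res ((E U).obj N) h s) = res N (e_map U h) s := rfl

lemma res_comm (N : X.Modules) {U U' : X.Opens} (h : U' ≤ U) {W W' : X.Opens} (h' : W' ≤ W)
    (s : Γ(N, U.ι ''ᵁ U.ι ⁻¹ᵁ W)) :
    res N (e_le h W') (res N (e_map U h') s) = res N (e_map U' h') (res N (e_le h W) s) :=
  (res_res N _ _ s).trans (res_res N _ _ s).symm

/-- The underlying additive maps of `ρ`. -/
def ρPre {U U' : X.Opens} (h : U' ≤ U) (N : X.Modules) :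
    ((E U).obj N).presheaf ⟶ ((E U').obj N).presheaf where
  app W := AddCommGrpCat.ofHom (X := Γ((E U).obj N, W.unop)) (Y := Γ((E U').obj N, W.unop))
    (res N (e_le h W.unop))
  naturality W W' i := by
    obtain ⟨W⟩ := W
    obtain ⟨W'⟩ := W'
    obtain ⟨i, rfl⟩ : ∃ j : W' ⟶ W, i = j.op := ⟨i.unop, rfl⟩
    ext s
    exact res_comm N h i.le s

lemma ρPre_smul {U U' : X.Opens} (h : U' ≤ U) (N : X.Modules) (W : X.Opens) (r : Γ(X, W))
    (s : Γ((E U).obj N, W)) : (ρPre h N).app (op W) (r • s) = r • (show Γ((E U').obj N, W) from (ρPre h N).app (op W) s) :=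
  ((congrArg (res N (e_le h W)) (e_smul N U W r s)).trans
    ((res_smul N (e_le h W) _ _).trans (congrArg (· • res N (e_le h W) (show Γ(N, U.ι ''ᵁ U.ι ⁻¹ᵁ W) from s))
      (resO_resO (e_le h W) (U.ι.image_preimage_le W) r)))).trans (e_smul N U' W r _).symm

/-- The restriction maps `ι_* ι^* N ⟶ ι'_* ι'^* N`. -/
def ρHom {U U' : X.Opens} (h : U' ≤ U) (N : X.Modules) : (E U).obj N ⟶ (E U').obj N :=
  ⟨PresheafOfModules.homMk (ρPre h N) (fun W r s => ρPre_smul h N W.unop r s)⟩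

lemma ρHom_app {U U' : X.Opens} (h : U' ≤ U) (N : X.Modules) (W : X.Opens) :
    (ρHom h N).app W = AddCommGrpCat.ofHom (res N (e_le h W)) := rfl

/-- The natural restriction maps. -/
def ρ {U U' : X.Opens} (h : U' ≤ U) : E U ⟶ E U' where
  app N := ρHom h N
  naturality M N φ := Scheme.Modules.hom_ext _ _ fun W => by
    ext s
    exact (app_res φ (e_le h W) s)

lemma ρ_app {U U' : X.Opens} (h : U' ≤ U) (N : X.Modules) (W : X.Opens)
    (s : Γ(N, U.ι ''ᵁ U.ι ⁻¹ᵁ W)) : ((ρ h).app N).app W s = res N (e_le h W) s := rfl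

lemma ρ_comp {U U' U'' : X.Opens} (h : U' ≤ U) (h' : U'' ≤ U') : ρ h ≫ ρ h' = ρ (h'.trans h) := by
  ext N : 2
  refine Scheme.Modules.hom_ext _ _ fun W => ?_
  ext s
  exact res_res N (e_le h' W) (e_le h W) s

variable (f : X ⟶ S) (V : S.Opens)

/-- `N ↦ (f_* ι_* ι^* N)|_V` -/
abbrev Ψ (U : X.Opens) : X.Modules ⥤ V.toScheme.Modules :=
  E U ⋙ (Scheme.Modules.pushforward f ⋙ Scheme.Modules.restrictFunctor V.ι)

/-- The maps between the `Ψ`. -/
abbrev ψ {U U' : X.Opens} (h : U' ≤ U) : Ψ f V U ⟶ Ψ f V U' :=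
  Functor.whiskerRight (ρ h) _

lemma ψ_app {U U' : X.Opens} (h : U' ≤ U) (N : X.Modules) (W : V.toScheme.Opens)
    (s : Γ(N, U.ι ''ᵁ U.ι ⁻¹ᵁ (f ⁻¹ᵁ (V.ι ''ᵁ W)))) :
    ((ψ f V h).app N).app W s = res N (e_le h _) s := rfl

lemma ψ_comp {U U' U'' : X.Opens} (h : U' ≤ U) (h' : U'' ≤ U') :
    ψ f V h ≫ ψ f V h' = ψ f V (h'.trans h) :=
  (Functor.whiskerRight_comp _ _ _).symm.trans
    (congrArg (fun r => Functor.whiskerRight r _) (ρ_comp h h'))

/-- Flasque modules. -/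
def IsFlasque (N : X.Modules) : Prop :=
  ∀ {P Q : X.Opens} (h : P ≤ Q), Function.Surjective (res N h)

theorem glue (N : X.Modules) {P Q T R : X.Opens} (hP : P ≤ T) (hQ : Q ≤ T) (hRP : R ≤ P) (hRQ : R ≤ Q)
    (hT : T ≤ P ⊔ Q) (hR : P ⊓ Q ≤ R) (a : Γ(N, P)) (b : Γ(N, Q)) (h : res N hRP a = res N hRQ b) :
    ∃ s : Γ(N, T), res N hP s = a ∧ res N hQ s = b := by
  have h' : res N (inf_le_left : P ⊓ Q ≤ P) a = res N (inf_le_right : P ⊓ Q ≤ Q) b := by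
    rw [← res_res N hR hRP a, h, res_res]
  let U : ULift.{u} Bool → X.Opens := fun i => cond i.down P Q
  let sf : ∀ i, Γ(N, U i) := fun i => match i with | ⟨true⟩ => a | ⟨false⟩ => b
  obtain ⟨s, hs, -⟩ := TopCat.Sheaf.existsUnique_gluing' (abSheaf N) U T
    (fun i => homOfLE (match i with | ⟨true⟩ => hP | ⟨false⟩ => hQ))
    (fun x hx => by
      rcases hT hx with h | h
      · exact Opens.mem_iSup.2 ⟨⟨true⟩, h⟩
      · exact Opens.mem_iSup.2 ⟨⟨false⟩, h⟩)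
    sf (fun i j => by
      obtain ⟨_ | _⟩ := i <;> obtain ⟨_ | _⟩ := j
      · rfl
      · exact (congrArg (res N (le_inf inf_le_right inf_le_left : Q ⊓ P ≤ P ⊓ Q)) h'.symm).trans (res_res N _ _ a) |>
          (Eq.trans (res_res N (le_inf inf_le_right inf_le_left : Q ⊓ P ≤ P ⊓ Q) inf_le_right b).symm)
      · exact h'
      · rfl)
  exact ⟨s, hs ⟨true⟩, hs ⟨false⟩⟩

theorem res_sep (N : X.Modules) {P Q T : X.Opens} (hP : P ≤ T) (hQ : Q ≤ T) (hT : T ≤ P ⊔ Q) (s : Γ(N, T))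
    (h1 : res N hP s = 0) (h2 : res N hQ s = 0) : s = 0 := by
  refine section_eq_of_locally fun x hx => ?_
  rcases hT hx with h | h
  · exact ⟨P, hP, h, h1.trans (map_zero _).symm⟩
  · exact ⟨Q, hQ, h, h2.trans (map_zero _).symm⟩

theorem mv_inj (N : X.Modules) (U U' : X.Opens) (W : V.toScheme.Opens)
    (s : Γ((Ψ f V (U ⊔ U')).obj N, W))
    (h1 : ((ψ f V (le_sup_left : U ≤ U ⊔ U')).app N).app W s = 0)
    (h2 : ((ψ f V (le_sup_right : U' ≤ U ⊔ U')).app N).app W s = 0) : s = 0 :=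
  res_sep N (e_le le_sup_left _) (e_le le_sup_right _) (by rw [eimg, eimg, eimg, inf_sup_right]) s h1 h2

theorem mv_glue (N : X.Modules) (U U' : X.Opens) (W : V.toScheme.Opens)
    (a : Γ((Ψ f V U).obj N, W)) (b : Γ((Ψ f V U').obj N, W))
    (h : ((ψ f V (inf_le_left : U ⊓ U' ≤ U)).app N).app W a =
      ((ψ f V (inf_le_right : U ⊓ U' ≤ U')).app N).app W b) :
    ∃ s : Γ((Ψ f V (U ⊔ U')).obj N, W), ((ψ f V (le_sup_left : U ≤ U ⊔ U')).app N).app W s = a ∧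
      ((ψ f V (le_sup_right : U' ≤ U ⊔ U')).app N).app W s = b :=
  glue N (e_le le_sup_left _) (e_le le_sup_right _) (e_le inf_le_left _) (e_le inf_le_right _)
    (by rw [eimg, eimg, eimg, inf_sup_right]) (by rw [eimg, eimg, eimg]; exact fun x hx => ⟨⟨hx.1.1, hx.2.1⟩, hx.1.2⟩) a b h

theorem mv_surj (N : X.Modules) (hN : IsFlasque N) {U U' : X.Opens} (h : U' ≤ U) (W : V.toScheme.Opens) :
    Function.Surjective (((ψ f V h).app N).app W) :=
  hN (e_le h _)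

end Groth.Agent.RPushQC
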