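import Groth.Agent.RPushQC.MV
import Groth.Agent.CohQC.RpushModules
import Groth.Agent.CohQC.Relative
import Groth.Agent.QC.Localisation

/-!
Flasque resolutions compute higher direct images; the affine base case.
-/

universe u

open CategoryTheory Category Limits Opposite TopologicalSpace AlgebraicGeometry
open Groth.Agent.SiteCoh

set_option backward.isDefEq.respectTransparency false

noncomputable section

namespace Groth.Agent.RPushQC

open Groth.Agent.QC

variable {X S : Scheme.{u}}

lemma isFlasque_of_injective (N : X.Modules) [Injective N] : IsFlasque N := fun h =>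
  @CohQC.sections_surjective_of_injective _ _ _ X.ringCatSheaf N ‹Injective N› _ _ (homOfLE h) inferInstance

lemma isFlasque_toAb {N : X.Modules} (hN : IsFlasque N) : TopCat.Sheaf.IsFlasque (Coh.toAb N) where
  epi i := (AddCommGrpCat.epi_iff_surjective _).mpr (hN i.unop.le)

lemma isFlasque_restrict {N : X.Modules} (hN : IsFlasque N) {Y : Scheme.{u}} (j : Y ⟶ X)
    [IsOpenImmersion j] : IsFlasque (N.restrict j) := fun h => hN (j.image_mono h)

/-- A flasque resolution of a module computes its higher direct images. -/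
theorem toAb_push_homology (f : X ⟶ S) (I : CochainComplex X.Modules ℕ)
    (hex : ∀ m, I.ExactAt (m + 1)) (hI : ∀ n, IsFlasque (I.X n)) (n : ℕ) :
    Nonempty (Coh.toAb ((((Coh.push f).mapHomologicalComplex (ComplexShape.up ℕ)).obj I).homology n) ≅
      (Coh.RpushAb f n).obj (Coh.toAb (I.cycles 0))) := by
  let T := SheafOfModules.toSheaf.{u} X.ringCatSheaf
  let T' := SheafOfModules.toSheaf.{u} S.ringCatSheaf
  have : T.Additive := by infer_instance
  have : T'.Additive := by infer_instance
  have : PreservesFiniteLimits T := by infer_instance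
  have : PreservesFiniteColimits T := CohQC.toSheaf_preservesFiniteColimits X.ringCatSheaf
  have : PreservesFiniteLimits T' := by infer_instance
  have : PreservesFiniteColimits T' := CohQC.toSheaf_preservesFiniteColimits S.ringCatSheaf
  have : T.PreservesHomology := Functor.preservesHomologyOfExact T
  have : T'.PreservesHomology := Functor.preservesHomologyOfExact T'
  let K := (T.mapHomologicalComplex (ComplexShape.up ℕ)).obj I
  have hexK : ∀ m, K.ExactAt (m + 1) := fun m =>
    (HomologicalComplex.exactAt_iff K (m + 1)).mpr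
      (((HomologicalComplex.exactAt_iff I (m + 1)).mp (hex m)).map T)
  have hK : ∀ (U : X.Opens) (m : ℕ), Acyc U (K.X m) := fun U m p =>
    haveI := isFlasque_toAb (hI m)
    flasque_acyclic (Coh.toAb (I.X m)) U p
  obtain ⟨e⟩ := CohQC.rpush_iso_homology (L := Opens.grothendieckTopology S) K hexK hK (Opens.map f.base) n
  let P := ((Coh.push f).mapHomologicalComplex (ComplexShape.up ℕ)).obj I
  exact ⟨((P.sc n).mapHomologyIso T').symm ≪≫ e.symm ≪≫
    (Coh.RpushAb f n).mapIso ((I.sc 0).mapCyclesIso T)⟩

theorem isQCoh_of_isZero {N Q : X.Modules} (h : IsZero N) (hQ : Coh.IsQCoh Q) : Coh.IsQCoh N :=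
  QC.isQCoh_of_iso ((isZero_kernel_of_mono (𝟙 Q)).iso h) (QC.isQCoh_kernel hQ hQ _)

/-- Affine morphisms: flasque resolutions of quasi-coherent modules have quasi-coherent push-forward homology. -/
theorem isQCoh_homology_of_isAffineHom (g : X ⟶ S) [IsAffineHom g] (I : CochainComplex X.Modules ℕ)
    (hex : ∀ m, I.ExactAt (m + 1)) (hI : ∀ n, IsFlasque (I.X n)) (hq : Coh.IsQCoh (I.cycles 0)) (p : ℕ) :
    Coh.IsQCoh ((((Coh.push g).mapHomologicalComplex (ComplexShape.up ℕ)).obj I).homology p) := by
  let P := ((Coh.push g).mapHomologicalComplex (ComplexShape.up ℕ)).obj I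
  have h0 : Coh.IsQCoh ((Coh.push g).obj (I.cycles 0)) := QC.isQCoh_pushforward g
  match p with
  | 0 =>
    exact QC.isQCoh_of_iso (IsLimit.conePointUniqueUpToIso
      (isLimitForkMapOfIsLimit' (Coh.push g) (I.iCycles_d 0 1) (I.cyclesIsKernel 0 1 (by simp)))
      (P.cyclesIsKernel 0 1 (by simp)) ≪≫ CochainComplex.isoHomologyπ₀ P) h0
  | q + 1 =>
    obtain ⟨e⟩ := toAb_push_homology g I hex hI (q + 1)
    refine isQCoh_of_isZero (CohQC.isZero_of_isZero_toAb ?_) h0
    have : (I.cycles 0).IsQuasicoherent := hq
    exact (isZero_rpush_of_locKilled _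
      (CohQC.locKilled_of_isAffineHom g (I.cycles 0) (Nat.le_add_left 1 q))).of_iso e

end Groth.Agent.RPushQC
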