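import Groth.Agent.RPushQC.Main
import Groth.Agent.ModSiteGro.Basic
import Groth.Agent.SiteCoh.Leray
import Mathlib.CategoryTheory.Abelian.GrothendieckCategory.EnoughInjectives
import Mathlib.CategoryTheory.Abelian.Injective.Resolution

/-!
Higher direct images onto affine schemes compute cohomology.
-/

universe u

open CategoryTheory Category Limits Opposite TopologicalSpace AlgebraicGeometry
open Groth.Agent.SiteCoh

set_option backward.isDefEq.respectTransparency false

noncomputable section

namespace Groth.Agent.RPushQC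

variable {X S : Scheme.{u}}

theorem hasInjectiveResolutions (X : Scheme.{u}) : HasInjectiveResolutions X.Modules := by
  have : IsGrothendieckAbelian.{u} X.Modules :=
    ModSiteGro.isGrothendieckAbelian (R := X.ringCatSheaf)
  infer_instance

/-- `R^q f_*` of the abelian sheaf underlying a quasi-coherent module underlies a quasi-coherent module. -/
theorem exists_qcoh_iso_rpushAb (f : X ⟶ S) [QuasiCompact f] [QuasiSeparated f] (M : X.Modules)
    (hM : Coh.IsQCoh M) (q : ℕ) :
    ∃ N : S.Modules, Coh.IsQCoh N ∧ Nonempty (Coh.toAb N ≅ (Coh.RpushAb f q).obj (Coh.toAb M)) := by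
  have := hasInjectiveResolutions X
  exact ⟨(Coh.Rpush f q).obj M, isQCoh_rpush f M hM q, CohQC.toAb_rpush_iso f M q⟩

theorem hu_rpushAb_vanish (f : X ⟶ S) [QuasiCompact f] [QuasiSeparated f] (M : X.Modules)
    (hM : Coh.IsQCoh M) {V : S.Opens} (hV : IsAffineOpen V) (p q : ℕ) :
    Subsingleton (CohSite.HU ((Coh.RpushAb f q).obj (Coh.toAb M)) (p + 1) V) := by
  obtain ⟨N, hN, ⟨e⟩⟩ := exists_qcoh_iso_rpushAb f M hM q
  have : N.IsQuasicoherent := hN
  exact acyc_of_iso e (fun p => CohQC.hu_vanish_of_isAffineOpen N hV p) p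

theorem hh_equiv_sections [IsAffine S] (f : X ⟶ S) [QuasiCompact f] [QuasiSeparated f] (M : X.Modules)
    (hM : Coh.IsQCoh M) (q : ℕ) :
    Nonempty (Coh.HH X M q ≃+ ↑(((Coh.RpushAb f q).obj (Coh.toAb M)).obj.obj (op ⊤))) :=
  leray_top f.base (Coh.toAb M) (fun p q =>
    (huTerminalEquiv (Opens.grothendieckTopology S) isTerminalTop _ (p + 1)).toEquiv.subsingleton_congr.mpr
      (hu_rpushAb_vanish f M hM (isAffineOpen_top S) p q)) q

end Groth.Agent.RPushQC
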