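import Groth.Agent.RPushQC.Resolution

/-!
Higher direct images of quasi-coherent modules along qcqs morphisms are quasi-coherent.
-/

universe u

open CategoryTheory Category Limits Opposite TopologicalSpace AlgebraicGeometry

set_option backward.isDefEq.respectTransparency false

noncomputable section

namespace Groth.Agent.RPushQC

open Groth.Agent.QC

variable {X S : Scheme.{u}} (f : X ⟶ S) (V : S.Opens) (I : CochainComplex X.Modules ℕ)

theorem qp_affine (hV : IsAffineOpen V) (hex : ∀ m, I.ExactAt (m + 1)) (hI : ∀ n, IsFlasque (I.X n))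
    (hq : Coh.IsQCoh (I.cycles 0)) {U : X.Opens} (hU : IsAffineOpen U) (hUV : U ≤ f ⁻¹ᵁ V) :
    QP f V I U := by
  have hr : Set.range (U.ι ≫ f) ⊆ Set.range V.ι := by
    rw [Scheme.Opens.range_ι]
    rintro _ ⟨x, rfl⟩
    exact hUV x.2
  let g : U.toScheme ⟶ V.toScheme := IsOpenImmersion.lift V.ι (U.ι ≫ f) hr
  have hg : g ≫ V.ι = U.ι ≫ f := IsOpenImmersion.lift_fac _ _ hr
  have : IsAffine U.toScheme := hU
  have : IsAffine V.toScheme := hV
  have : IsAffineHom g := isAffineHom_of_isAffine g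
  let R := Scheme.Modules.restrictFunctor U.ι
  let K := (R.mapHomologicalComplex (ComplexShape.up ℕ)).obj I
  have : R.PreservesHomology := Functor.preservesHomologyOfExact R
  have hexK : ∀ m, K.ExactAt (m + 1) := fun m =>
    (HomologicalComplex.exactAt_iff K (m + 1)).mpr
      (((HomologicalComplex.exactAt_iff I (m + 1)).mp (hex m)).map R)
  have hKq : Coh.IsQCoh (K.cycles 0) :=
    QC.isQCoh_of_iso ((I.sc 0).mapCyclesIso R).symm (QC.isQCoh_restrict U.ι hq)
  let e : Ψ f V U ≅ R ⋙ Scheme.Modules.pushforward g :=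
    Functor.associator _ _ _ ≪≫ Functor.isoWhiskerLeft R
      ((Functor.associator _ _ _).symm ≪≫
        Functor.isoWhiskerRight (Scheme.Modules.pushforwardComp U.ι f ≪≫
          Scheme.Modules.pushforwardCongr hg.symm ≪≫ (Scheme.Modules.pushforwardComp g V.ι).symm) _ ≪≫
        Functor.associator _ _ _ ≪≫
        Functor.isoWhiskerLeft _ (Scheme.Modules.restrictFunctorAdjCounitIso V.ι) ≪≫ Functor.rightUnitor _)
  exact fun p => QC.isQCoh_of_iso
    ((HomologicalComplex.homologyFunctor _ _ p).mapIso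
      ((NatIso.mapHomologicalComplex e (ComplexShape.up ℕ)).app I)).symm
    (isQCoh_homology_of_isAffineHom g K hexK (fun n => isFlasque_restrict (hI n) U.ι) hKq p)

variable (hV : IsAffineOpen V) (hex : ∀ m, I.ExactAt (m + 1)) (hI : ∀ n, IsFlasque (I.X n))
  (hq : Coh.IsQCoh (I.cycles 0))

include hV hex hI hq

theorem qp_iSup_basicOpen {A : X.Opens} (hA : IsAffineOpen A) (hAV : A ≤ f ⁻¹ᵁ V) :
    ∀ (t : ℕ) (a : Fin t → Γ(X, A)), QP f V I (⨆ i, X.basicOpen (a i)) := by
  intro t
  induction t with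
  | zero =>
    intro a
    rw [iSup_of_empty]
    exact qp_affine f V I hV hex hI hq (isAffineOpen_bot X) bot_le
  | succ t ih =>
    intro a
    have e : (⨆ i, X.basicOpen (a i)) = X.basicOpen (a 0) ⊔ ⨆ i : Fin t, X.basicOpen (a i.succ) :=
      le_antisymm (iSup_le (Fin.cases le_sup_left fun j => le_sup_of_le_right
        (le_iSup (fun i : Fin t => X.basicOpen (a i.succ)) j)))
        (sup_le (le_iSup (fun i => X.basicOpen (a i)) 0)
          (iSup_le fun i => le_iSup (fun i => X.basicOpen (a i)) i.succ))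
    rw [e]
    refine qp_sup f V I hI (qp_affine f V I hV hex hI hq (hA.basicOpen _) ((X.basicOpen_le _).trans hAV))
      (ih _) ?_
    rw [inf_iSup_eq]
    simp only [← Scheme.basicOpen_mul]
    exact ih _

theorem qp_of_le_affine {A U : X.Opens} (hA : IsAffineOpen A) (hAV : A ≤ f ⁻¹ᵁ V)
    (hUc : IsCompact (U : Set X)) (hUA : U ≤ A) : QP f V I U := by
  choose a ha hxa using fun x : U => hA.exists_basicOpen_le (V := U) ⟨x.1, x.2⟩ (hUA x.2)
  obtain ⟨s, hs⟩ := hUc.elim_finite_subcover (fun x : U => (X.basicOpen (a x) : Set X))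
    (fun x => (X.basicOpen (a x)).2) (fun x hx => Set.mem_iUnion.2 ⟨⟨x, hx⟩, hxa ⟨x, hx⟩⟩)
  have e : U = ⨆ i : Fin s.card, X.basicOpen (a (s.equivFin.symm i).1) := by
    refine le_antisymm (fun x hx => ?_) (iSup_le fun i => ha _)
    obtain ⟨y, hy, hxy⟩ := Set.mem_iUnion₂.1 (hs hx)
    exact Opens.mem_iSup.2 ⟨s.equivFin ⟨y, hy⟩, by rw [Equiv.symm_apply_apply]; exact hxy⟩
  rw [e]
  exact qp_iSup_basicOpen f V I hV hex hI hq hA hAV _ _

theorem qp_top [QuasiCompact f] [QuasiSeparated f] : QP f V I (f ⁻¹ᵁ V) := by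
  have hΩ := f.isQuasiSeparated_preimage hV.isQuasiSeparated
  have key : ∀ (t : ℕ) (A : Fin t → X.Opens), (∀ i, IsAffineOpen (A i)) → (∀ i, A i ≤ f ⁻¹ᵁ V) →
      QP f V I (⨆ i, A i) := by
    intro t
    induction t with
    | zero =>
      intro A _ _
      rw [iSup_of_empty]
      exact qp_affine f V I hV hex hI hq (isAffineOpen_bot X) bot_le
    | succ t ih =>
      intro A hA hle
      have e : (⨆ i, A i) = A 0 ⊔ ⨆ i : Fin t, A i.succ :=
        le_antisymm (iSup_le (Fin.cases le_sup_left fun j => le_sup_of_le_right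
          (le_iSup (fun i : Fin t => A i.succ) j)))
          (sup_le (le_iSup A 0) (iSup_le fun i => le_iSup A i.succ))
      rw [e]
      refine qp_sup f V I hI (qp_affine f V I hV hex hI hq (hA 0) (hle 0))
        (ih _ (fun i => hA _) (fun i => hle _)) ?_
      refine qp_of_le_affine f V I hV hex hI hq (hA 0) (hle 0) ?_ inf_le_left
      have hc : IsCompact (((⨆ i : Fin t, A i.succ) : X.Opens) : Set X) := by
        rw [Opens.coe_iSup]
        exact isCompact_iUnion fun i => (hA _).isCompact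
      exact hΩ _ _ (hle 0) (A 0).2 (hA 0).isCompact (show (⨆ i : Fin t, A i.succ) ≤ f ⁻¹ᵁ V from iSup_le fun i => hle _) (Opens.isOpen _) hc
  obtain ⟨ι, hι, U, hU, hle, hcov⟩ := QC.exists_finite_affine_cover (X := X) (f.isCompact_preimage hV.isCompact)
  have e : f ⁻¹ᵁ V = ⨆ i, U ((Fintype.equivFin ι).symm i) := by
    refine le_antisymm (fun x hx => ?_) (iSup_le fun i => hle _)
    obtain ⟨i, hi⟩ := hcov x hx
    exact Opens.mem_iSup.2 ⟨Fintype.equivFin ι i, by rwa [Equiv.symm_apply_apply]⟩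
  rw [e]
  exact key _ _ (fun i => hU _) (fun i => hle _)

omit hV hex hI hq

/-- `(f_* N)|_V` is `(f_* ι_* ι^* N)|_V` for `U = f⁻¹ V`. -/
def topIso : Scheme.Modules.pushforward f ⋙ Scheme.Modules.restrictFunctor V.ι ≅ Ψ f V (f ⁻¹ᵁ V) :=
  haveI : ∀ N, IsIso ((Functor.whiskerRight (Scheme.Modules.restrictAdjunction (f ⁻¹ᵁ V).ι).unit
      (Scheme.Modules.pushforward f ⋙ Scheme.Modules.restrictFunctor V.ι)).app N) := fun N =>
    Scheme.Modules.Hom.isIso_iff_isIso_app.2 fun W => by
      let P : X.Opens := f ⁻¹ᵁ (V.ι ''ᵁ W)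
      have hP : P ≤ f ⁻¹ᵁ V := f.preimage_mono (by
        rintro x ⟨y, -, rfl⟩; exact y.2)
      have hle : P ≤ (f ⁻¹ᵁ V).ι ''ᵁ (f ⁻¹ᵁ V).ι ⁻¹ᵁ P := by
        rw [eimg]; exact le_inf hP le_rfl
      refine (ConcreteCategory.isIso_iff_bijective _).2
        (show Function.Bijective (res N ((f ⁻¹ᵁ V).ι.image_preimage_le P)) from
        Function.bijective_iff_has_inverse.2 ⟨fun s => res N hle s,
          fun s => (res_res N _ _ s).trans (res_self N _ s),
          fun s => (res_res N _ _ s).trans (res_self N _ s)⟩)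
  (Functor.leftUnitor _).symm ≪≫
    @asIso _ _ _ _ (Functor.whiskerRight (Scheme.Modules.restrictAdjunction (f ⁻¹ᵁ V).ι).unit
      (Scheme.Modules.pushforward f ⋙ Scheme.Modules.restrictFunctor V.ι)) (NatIso.isIso_of_isIso_app _)

theorem isQCoh_rpush [QuasiCompact f] [QuasiSeparated f] [HasInjectiveResolutions X.Modules] (M : X.Modules)
    (hM : Coh.IsQCoh M) (p : ℕ) : Coh.IsQCoh ((Coh.Rpush f p).obj M) := by
  let R := injectiveResolution M
  have hI : ∀ n, IsFlasque (R.cocomplex.X n) := fun n => isFlasque_of_injective _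
  have hq : Coh.IsQCoh (R.cocomplex.cycles 0) :=
    QC.isQCoh_of_iso (IsLimit.conePointUniqueUpToIso R.isLimitKernelFork
      (R.cocomplex.cyclesIsKernel 0 1 (by simp))) hM
  let P := ((Coh.push f).mapHomologicalComplex (ComplexShape.up ℕ)).obj R.cocomplex
  refine QC.isQCoh_of_iso (R.isoRightDerivedObj (Coh.push f) p).symm
    (QC.isQCoh_of_local fun x => ?_)
  obtain ⟨V, hV, hxV⟩ := QC.exists_affine_mem x
  let r := Scheme.Modules.restrictFunctor V.ι
  have : r.PreservesHomology := Functor.preservesHomologyOfExact r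
  refine ⟨V.toScheme, V.ι, inferInstance, ⟨⟨x, hxV⟩, rfl⟩, ?_⟩
  refine QC.isQCoh_of_iso ?_ (qp_top f V R.cocomplex hV R.cocomplex_exactAt_succ hI hq p)
  exact (HomologicalComplex.homologyFunctor _ _ p).mapIso
    ((NatIso.mapHomologicalComplex (topIso f V) (ComplexShape.up ℕ)).app R.cocomplex).symm ≪≫
    (P.sc p).mapHomologyIso r

end Groth.Agent.RPushQC
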