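import Groth.Agent.QC.Closure
import Groth.Agent.CohQC.Extension

/-!
Short exactness of module sequences from sections; quasi-coherence in five term exact sequences.
-/

universe u

open CategoryTheory CategoryTheory.Limits AlgebraicGeometry TopologicalSpace Opposite

noncomputable section

namespace Groth.Agent.RPushQC

open Groth.Agent.QC

variable {X : Scheme.{u}}

lemma epi_of_app_surjective {M N : X.Modules} (φ : M ⟶ N) (h : ∀ U, Function.Surjective (φ.app U)) :
    Epi φ :=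
  ⟨fun a b e => Scheme.Modules.hom_ext _ _ fun U => by
    ext s
    obtain ⟨t, rfl⟩ := h U s
    exact ConcreteCategory.congr_hom (congrArg (fun ψ => Scheme.Modules.Hom.app ψ U) e) t⟩

theorem shortExact_of_sections (S : ShortComplex X.Modules)
    (hinj : ∀ U, Function.Injective (S.f.app U)) (hsurj : ∀ U, Function.Surjective (S.g.app U))
    (hex : ∀ U (x : Γ(S.X₂, U)), S.g.app U x = 0 → ∃ a, S.f.app U a = x) : S.ShortExact := by
  have hmono : Mono S.f := (mono_iff_app_injective _).2 hinj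
  have hepi : Epi S.g := epi_of_app_surjective _ hsurj
  let k := kernel.lift S.g S.f S.zero
  have hk : ∀ U, Function.Bijective (k.app U) := fun U => by
    have e : ∀ a, (kernel.ι S.g).app U (k.app U a) = S.f.app U a := fun a =>
      ConcreteCategory.congr_hom (congrArg (fun ψ => Scheme.Modules.Hom.app ψ U) (kernel.lift_ι S.g S.f S.zero)) a
    refine ⟨fun a b h => hinj U (by rw [← e, ← e, h]), fun z => ?_⟩
    have hz : S.g.app U ((kernel.ι S.g).app U z) = 0 :=
      ConcreteCategory.congr_hom (congrArg (fun ψ => Scheme.Modules.Hom.app ψ U) (kernel.condition S.g)) z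
    obtain ⟨a, ha⟩ := hex U _ hz
    exact ⟨a, app_injective_of_mono (kernel.ι S.g) U ((e a).trans ha)⟩
  have : IsIso k := Scheme.Modules.Hom.isIso_iff_isIso_app.2 fun U =>
    (ConcreteCategory.isIso_iff_bijective _).2 (hk U)
  exact ⟨S.exact_of_f_is_kernel (IsLimit.ofIsoLimit (kernelIsKernel S.g)
    (Fork.ext (asIso k).symm (by simp [k])))⟩

/-- A sequence split at the middle is short exact when the four components behave like restrictions. -/
theorem shortExact_of_biprod (S : ShortComplex X.Modules) {A B : X.Modules}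
    (il : A ⟶ S.X₂) (ir : B ⟶ S.X₂) (pl : S.X₂ ⟶ A) (pr : S.X₂ ⟶ B)
    (tot : pl ≫ il + pr ≫ ir = 𝟙 _)
    (r₁ : S.X₁ ⟶ A) (r₂ : S.X₁ ⟶ B) (r₃ : A ⟶ S.X₃) (r₄ : B ⟶ S.X₃)
    (e₁ : S.f ≫ pl = r₁) (e₂ : S.f ≫ pr = r₂) (e₃ : il ≫ S.g = r₃) (e₄ : ir ≫ S.g = - r₄)
    (hinj : ∀ U s, r₁.app U s = 0 → r₂.app U s = 0 → s = 0)
    (hglue : ∀ U a b, r₃.app U a = r₄.app U b → ∃ s, r₁.app U s = a ∧ r₂.app U s = b)
    (hsurj : ∀ U, Function.Surjective (r₃.app U)) : S.ShortExact := by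
  subst e₁ e₂ e₃
  have key : ∀ (U) (x : Γ(S.X₂, U)), il.app U (pl.app U x) + ir.app U (pr.app U x) = x := fun U x =>
    ConcreteCategory.congr_hom (congrArg (fun ψ => Scheme.Modules.Hom.app ψ U) tot) x
  refine shortExact_of_sections S (fun U a b h => sub_eq_zero.1 (hinj U _ ?_ ?_)) (fun U c => ?_) fun U x hx => ?_
  · show pl.app U (S.f.app U (a - b)) = 0
    rw [map_sub, h, sub_self, map_zero]
  · show pr.app U (S.f.app U (a - b)) = 0
    rw [map_sub, h, sub_self, map_zero]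
  · obtain ⟨a, ha⟩ := hsurj U c
    exact ⟨il.app U a, ha⟩
  · have h4 : ∀ b, S.g.app U (ir.app U b) = - r₄.app U b := fun b =>
      ConcreteCategory.congr_hom (congrArg (fun ψ => Scheme.Modules.Hom.app ψ U) e₄) b
    rw [← key U x, map_add, h4, ← sub_eq_add_neg, sub_eq_zero] at hx
    obtain ⟨s, hs₁, hs₂⟩ := hglue U _ _ hx
    refine ⟨s, (key U _).symm.trans (Eq.trans ?_ (key U x))⟩
    exact congrArg₂ (· + ·) (congrArg (il.app U) hs₁) (congrArg (ir.app U) hs₂)

/-- In a five term exact sequence, the middle term is quasi-coherent if the others are. -/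
theorem isQCoh_of_exact₅ {A B C D E : X.Modules} (a : A ⟶ B) (b : B ⟶ C) (c : C ⟶ D) (d : D ⟶ E)
    (wab : a ≫ b = 0) (wbc : b ≫ c = 0) (wcd : c ≫ d = 0) (hab : (ShortComplex.mk a b wab).Exact)
    (hbc : (ShortComplex.mk b c wbc).Exact) (hcd : (ShortComplex.mk c d wcd).Exact)
    (hA : Coh.IsQCoh A) (hB : Coh.IsQCoh B) (hD : Coh.IsQCoh D) (hE : Coh.IsQCoh E) : Coh.IsQCoh C := by
  let b' : cokernel a ⟶ C := cokernel.desc a b wab
  let c' : C ⟶ kernel d := kernel.lift d c wcd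
  have : Mono b' := (ShortComplex.mk a b wab).exact_iff_mono_cokernel_desc.1 hab
  have : Epi c' := (ShortComplex.mk c d wcd).exact_iff_epi_kernel_lift.1 hcd
  have w : b' ≫ c = 0 := coequalizer.hom_ext (by simp [b', wbc])
  have w' : b' ≫ c' = 0 := (cancel_mono (kernel.ι d)).1 (by simp [c', w])
  let φ : ShortComplex.mk b c wbc ⟶ ShortComplex.mk b' c w :=
    { τ₁ := cokernel.π a, τ₂ := 𝟙 _, τ₃ := 𝟙 _ }
  let ψ : ShortComplex.mk b' c' w' ⟶ ShortComplex.mk b' c w :=
    { τ₁ := 𝟙 _, τ₂ := 𝟙 _, τ₃ := kernel.ι d }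
  have h1 : (ShortComplex.mk b' c w).Exact :=
    (ShortComplex.exact_iff_of_epi_of_isIso_of_mono φ).1 hbc
  exact CohQC.isQCoh_mid (ShortComplex.mk b' c' w')
    { exact := (ShortComplex.exact_iff_of_epi_of_isIso_of_mono ψ).2 h1 }
    (isQCoh_cokernel hA hB a) (isQCoh_kernel hD hE d)

lemma isQCoh_biprod {A B : X.Modules} (hA : Coh.IsQCoh A) (hB : Coh.IsQCoh B) : Coh.IsQCoh (A ⊞ B) :=
  CohQC.isQCoh_mid (ShortComplex.mk (biprod.inl : A ⟶ A ⊞ B) biprod.snd biprod.inl_snd)
    (ShortComplex.Splitting.ofHasBinaryBiproduct A B).shortExact hA hB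

end Groth.Agent.RPushQC
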