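import Groth.Agent.RPushQC.Acyclic

/-!
Affine direct images commute with higher direct images of quasi-coherent modules.
-/

universe u

open CategoryTheory Category Limits Opposite TopologicalSpace AlgebraicGeometry
open Groth.Agent.SiteCoh

set_option backward.isDefEq.respectTransparency false

noncomputable section

namespace Groth.Agent.RPushQC

variable {Y Z : Scheme.{u}} (g : Y ⟶ Z)

instance pushAb_preservesFiniteLimits : PreservesFiniteLimits (Coh.pushAb g) :=
  have : (Coh.pushAb g).IsRightAdjoint :=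
    (TopCat.Sheaf.pullbackPushforwardAdjunction AddCommGrpCat.{u} g.base).isRightAdjoint
  inferInstance

instance pushAb_preservesMono : (Coh.pushAb g).PreservesMonomorphisms :=
  preservesMonomorphisms_of_preservesLimitsOfShape (Coh.pushAb g)

/-- acyclicity over preimages of affine opens -/
def RelAcyc (G : CohTop.Ab Y.carrier) : Prop :=
  ∀ V : Z.Opens, IsAffineOpen V → Acyc (J := Opens.grothendieckTopology Y) (g ⁻¹ᵁ V) G

theorem push_shortExact {S : ShortComplex (CohTop.Ab Y.carrier)} (hS : S.ShortExact) (h₁ : RelAcyc g S.X₁) :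
    (S.map (Coh.pushAb g)).ShortExact := by
  have hf := hS.mono_f
  have hepi : Epi ((Coh.pushAb g).map S.g) := by
    refine (Sheaf.isLocallySurjective_iff_epi' AddCommGrpCat.{u} ((Coh.pushAb g).map S.g)).mp ⟨fun {V} s y hy => ?_⟩
    obtain ⟨W, hW, hyW, hWV⟩ := CohQC.exists_affine_le (S := Z) V y hy
    have : Subsingleton (CohSite.HU (J := Opens.grothendieckTopology Y) S.X₁ 1 (g ⁻¹ᵁ W)) := h₁ W hW 0
    exact ⟨W, homOfLE hWV, sections_surjective hS (g ⁻¹ᵁ W) _, hyW⟩
  have : Mono (S.map (Coh.pushAb g)).f := (inferInstance : Mono ((Coh.pushAb g).map S.f))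
  have : Epi (S.map (Coh.pushAb g)).g := hepi
  exact
    { exact := hS.exact.map_of_mono_of_preservesKernel (Coh.pushAb g) inferInstance inferInstance }

variable (K : CochainComplex (CohTop.Ab Y.carrier) ℕ) (hK : ∀ n, RelAcyc g (K.X n))
  (hH : ∀ n, RelAcyc g (K.homology n))

include hK hH in
theorem push_homology_iso (n : ℕ) :
    Nonempty ((((Coh.pushAb g).mapHomologicalComplex (ComplexShape.up ℕ)).obj K).homology n ≅
      (Coh.pushAb g).obj (K.homology n)) := by
  let G := Coh.pushAb g
  let P := (G.mapHomologicalComplex (ComplexShape.up ℕ)).obj K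
  have hker : ∀ n, IsLimit (KernelFork.ofι (G.map (K.iCycles n))
      (show G.map (K.iCycles n) ≫ P.d n (n + 1) = 0 by
        show G.map (K.iCycles n) ≫ G.map (K.d n (n + 1)) = 0
        rw [← G.map_comp, K.iCycles_d, G.map_zero])) := fun n =>
    isLimitForkMapOfIsLimit' G (K.iCycles_d n (n + 1)) (K.cyclesIsKernel n (n + 1) (by simp))
  let c : ∀ n, G.obj (K.cycles n) ≅ P.cycles n := fun n =>
    IsLimit.conePointUniqueUpToIso (hker n) (P.cyclesIsKernel n (n + 1) (by simp))
  match n with
  | 0 =>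
    exact ⟨(CochainComplex.isoHomologyπ₀ P).symm ≪≫ (c 0).symm ≪≫ G.mapIso (asIso (K.homologyπ 0))⟩
  | p + 1 =>
    have hac := fun (V : Z.Opens) (hV : IsAffineOpen V) =>
      acyc_cycles (U := g ⁻¹ᵁ V) K (fun n => hK n V hV) (fun n => hH n V hV)
    have hZ := push_shortExact g (seqZ_shortExact K p) fun V hV => hac V hV p
    have hB := push_shortExact g (seqH_shortExact K p) fun V hV =>
      acyc_right (seqZ_shortExact K p) (hac V hV p) (hK p V hV)
    have e : K.toCycles p (p + 1) = cokernel.π (K.iCycles p) ≫ bdToCycles K p :=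
      (cokernel.π_desc _ _ _).symm
    have w : G.map (K.toCycles p (p + 1)) ≫ G.map (K.homologyπ (p + 1)) = 0 := by
      rw [← G.map_comp, K.toCycles_comp_homologyπ, G.map_zero]
    have hex : (ShortComplex.mk (G.map (K.toCycles p (p + 1))) (G.map (K.homologyπ (p + 1))) w).Exact := by
      let φ : ShortComplex.mk (G.map (K.toCycles p (p + 1))) (G.map (K.homologyπ (p + 1))) w ⟶
          (seqH K p).map G :=
        { τ₁ := G.map (cokernel.π (K.iCycles p)), τ₂ := 𝟙 _, τ₃ := 𝟙 _
          comm₁₂ := by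
            show G.map _ ≫ G.map _ = G.map _ ≫ 𝟙 _
            rw [Category.comp_id, ← G.map_comp, e]
          comm₂₃ := (Category.id_comp _).trans (Category.comp_id _).symm }
      have : Epi φ.τ₁ := hZ.epi_g
      exact (ShortComplex.exact_iff_of_epi_of_isIso_of_mono φ).2 hB.exact
    have : Epi (G.map (K.homologyπ (p + 1))) := hB.epi_g
    have ht : P.toCycles p (p + 1) = G.map (K.toCycles p (p + 1)) ≫ (c (p + 1)).hom := by
      rw [← cancel_mono (P.iCycles (p + 1)), P.toCycles_i, Category.assoc,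
        show (c (p + 1)).hom ≫ P.iCycles (p + 1) = G.map (K.iCycles (p + 1)) from
          IsLimit.conePointUniqueUpToIso_hom_comp (hker (p + 1)) _ WalkingParallelPair.zero,
        ← G.map_comp, K.toCycles_i]
      rfl
    exact ⟨(P.homologyIsCokernel p (p + 1) (by simp)).coconePointsIsoOfNatIso hex.gIsCokernel
      (parallelPair.ext (Iso.refl _) (c (p + 1)).symm (by simp [ht]) (by simp))⟩

end Groth.Agent.RPushQC

namespace Groth.Agent.RPushQC

/-- `R^p (g ∘ f)_* = g_* R^p f_*` on quasi-coherent modules, for affine `g`. -/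
theorem rpushAb_comp_affine {X Y Z : Scheme.{u}} (f : X ⟶ Y) (g : Y ⟶ Z) [QuasiCompact f] [QuasiSeparated f]
    [IsAffineHom g] (M : X.Modules) (hM : Coh.IsQCoh M) (p : ℕ) :
    Nonempty ((Coh.RpushAb (f ≫ g) p).obj (Coh.toAb M) ≅
      (Coh.pushAb g).obj ((Coh.RpushAb f p).obj (Coh.toAb M))) := by
  let R := injectiveResolution (Coh.toAb M)
  let C := ((Coh.pushAb f).mapHomologicalComplex (ComplexShape.up ℕ)).obj R.cocomplex
  let e := fun n => R.isoRightDerivedObj (Coh.pushAb f) n
  obtain ⟨a⟩ := push_homology_iso g C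
    (fun n V _ q => push_injective_acyclic f.base (R.cocomplex.X n) (g ⁻¹ᵁ V) q)
    (fun n V hV => acyc_of_iso (e n) fun q => hu_rpushAb_vanish f M hM (hV.preimage g) q n) p
  exact ⟨R.isoRightDerivedObj (Coh.pushAb (f ≫ g)) p ≪≫
    (HomologicalComplex.homologyFunctor _ _ p).mapIso
      ((NatIso.mapHomologicalComplex (show Coh.pushAb (f ≫ g) ≅ Coh.pushAb f ⋙ Coh.pushAb g from Iso.refl _)
        (ComplexShape.up ℕ)).app R.cocomplex) ≪≫
    a ≪≫ (Coh.pushAb g).mapIso (e p).symm⟩

end Groth.Agent.RPushQC
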