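import Groth.Agent.RPushQC.Trunc
import Mathlib.Algebra.Homology.HomologySequence
import Mathlib.Algebra.Homology.HomologicalComplexAbelian

/-!
Mayer-Vietoris for the quasi-coherence of the homology of `(f_* ι_* ι^* I)|_V`.
-/

universe u

open CategoryTheory CategoryTheory.Limits AlgebraicGeometry TopologicalSpace Opposite

set_option backward.isDefEq.respectTransparency false

noncomputable section

namespace Groth.Agent.RPushQC

open Groth.Agent.QC

variable {X S : Scheme.{u}} (f : X ⟶ S) (V : S.Opens) (I : CochainComplex X.Modules ℕ)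

/-- The complex `(f_* ι_* ι^* I)|_V`. -/
abbrev C (U : X.Opens) : CochainComplex V.toScheme.Modules ℕ :=
  ((Ψ f V U).mapHomologicalComplex (ComplexShape.up ℕ)).obj I

/-- Restriction maps between the complexes. -/
abbrev c {U U' : X.Opens} (h : U' ≤ U) : C f V I U ⟶ C f V I U' :=
  (NatTrans.mapHomologicalComplex (ψ f V h) (ComplexShape.up ℕ)).app I

lemma c_comp {U U' U'' : X.Opens} (h : U' ≤ U) (h' : U'' ≤ U') :
    c f V I h ≫ c f V I h' = c f V I (h'.trans h) := by
  ext n : 1
  exact congr_app (ψ_comp f V h h') (I.X n)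

/-- Quasi-coherence of all the homology sheaves over `U`. -/
def QP (U : X.Opens) : Prop := ∀ p : ℕ, Coh.IsQCoh ((C f V I U).homology p)

variable (U U' : X.Opens)

/-- The Mayer-Vietoris sequence of complexes. -/
def mvSC : ShortComplex (CochainComplex V.toScheme.Modules ℕ) :=
  ShortComplex.mk
    (biprod.lift (c f V I (le_sup_left : U ≤ U ⊔ U')) (c f V I (le_sup_right : U' ≤ U ⊔ U')))
    (biprod.desc (c f V I (inf_le_left : U ⊓ U' ≤ U)) (- c f V I (inf_le_right : U ⊓ U' ≤ U'))) (by
      rw [biprod.lift_desc, Preadditive.comp_neg, c_comp, c_comp, add_neg_cancel])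

theorem mvSC_shortExact (hI : ∀ n, IsFlasque (I.X n)) : (mvSC f V I U U').ShortExact :=
  HomologicalComplex.shortExact_of_degreewise_shortExact _ fun n =>
    shortExact_of_biprod ((mvSC f V I U U').map (HomologicalComplex.eval _ _ n))
      ((biprod.inl : C f V I U ⟶ C f V I U ⊞ C f V I U').f n)
      ((biprod.inr : C f V I U' ⟶ C f V I U ⊞ C f V I U').f n)
      ((biprod.fst : C f V I U ⊞ C f V I U' ⟶ C f V I U).f n)
      ((biprod.snd : C f V I U ⊞ C f V I U' ⟶ C f V I U').f n)
      (congrArg (fun φ => HomologicalComplex.Hom.f φ n) (biprod.total (X := C f V I U) (Y := C f V I U')))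
      ((c f V I (le_sup_left : U ≤ U ⊔ U')).f n) ((c f V I (le_sup_right : U' ≤ U ⊔ U')).f n)
      ((c f V I (inf_le_left : U ⊓ U' ≤ U)).f n) ((c f V I (inf_le_right : U ⊓ U' ≤ U')).f n)
      (congrArg (fun φ => HomologicalComplex.Hom.f φ n)
        (biprod.lift_fst (c f V I (le_sup_left : U ≤ U ⊔ U')) (c f V I (le_sup_right : U' ≤ U ⊔ U'))))
      (congrArg (fun φ => HomologicalComplex.Hom.f φ n)
        (biprod.lift_snd (c f V I (le_sup_left : U ≤ U ⊔ U')) (c f V I (le_sup_right : U' ≤ U ⊔ U'))))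
      (congrArg (fun φ => HomologicalComplex.Hom.f φ n)
        (biprod.inl_desc (c f V I (inf_le_left : U ⊓ U' ≤ U)) (- c f V I (inf_le_right : U ⊓ U' ≤ U'))))
      (congrArg (fun φ => HomologicalComplex.Hom.f φ n)
        (biprod.inr_desc (c f V I (inf_le_left : U ⊓ U' ≤ U)) (- c f V I (inf_le_right : U ⊓ U' ≤ U'))))
      (fun W s h1 h2 => mv_inj f V (I.X n) U U' W s h1 h2)
      (fun W a b h => mv_glue f V (I.X n) U U' W a b h)
      (fun W => mv_surj f V (I.X n) (hI n) inf_le_left W)

theorem qp_sup (hI : ∀ n, IsFlasque (I.X n)) {U U'} (h : QP f V I U) (h' : QP f V I U')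
    (h'' : QP f V I (U ⊓ U')) : QP f V I (U ⊔ U') := by
  have hS := mvSC_shortExact f V I U U' hI
  have := fun p => preservesBinaryBiproducts_of_preservesBiproducts
    (HomologicalComplex.homologyFunctor V.toScheme.Modules (ComplexShape.up ℕ) p)
  have h2 : ∀ p, Coh.IsQCoh ((mvSC f V I U U').X₂.homology p) := fun p =>
    QC.isQCoh_of_iso ((HomologicalComplex.homologyFunctor _ _ p).mapBiprod (C f V I U) (C f V I U')).symm
      (isQCoh_biprod (h p) (h' p))
  intro p
  match p with
  | 0 =>
    have : Mono ((mvSC f V I U U').f.f 0) := by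
      have := hS.mono_f
      infer_instance
    have := HomologicalComplex.mono_homologyMap_of_mono_of_not_rel (mvSC f V I U U').f 0 (by simp)
    have hz : Coh.IsQCoh (kernel (𝟙 ((mvSC f V I U U').X₂.homology 0))) :=
      QC.isQCoh_kernel (h2 0) (h2 0) _
    exact isQCoh_of_exact₅ (0 : kernel (𝟙 ((mvSC f V I U U').X₂.homology 0)) ⟶ kernel (𝟙 _)) 0 _ _
      (by simp) (by simp) _
      (ShortComplex.exact_of_isZero_X₂ _ (isZero_kernel_of_mono _))
      ((ShortComplex.exact_iff_mono _ rfl).2 inferInstance) (hS.homology_exact₂ 0)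
      hz hz (h2 0) (h'' 0)
  | q + 1 =>
    exact isQCoh_of_exact₅ _ _ _ _ _ _ _ (hS.homology_exact₃ q (q + 1) (by simp))
      (hS.homology_exact₁ q (q + 1) (by simp)) (hS.homology_exact₂ (q + 1)) (h2 q) (h'' q)
      (h2 (q + 1)) (h'' (q + 1))

end Groth.Agent.RPushQC
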